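import Groth.Agent.Lib.Modules.TensorAffine
import Groth.Agent.Lib.Modules.ProjFormula
import Groth.Agent.Lib.ZarCoh.FlatBC.PullbackSections
import Groth.Agent.Lib.DerivedOX.ProjClosed
import Groth.Agent.Lib.ClSub.Basis
import Groth.Agent.Lib.QCoh.Pushforward

/-!
The projection formula for an affine morphism and quasi-coherent modules.
-/

set_option linter.style.haveILetI false

universe u

open CategoryTheory Limits AlgebraicGeometry Opposite TopologicalSpace
open scoped TensorProduct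

namespace Groth.Agent.Lib.ProjAffine51

open Groth.Agent.Lib Groth.Agent.Lib.Modules

variable {X Y : Scheme.{u}} (f : X ⟶ Y) [IsAffineHom f] (E : Y.Modules) (F : X.Modules)
  [E.IsQuasicoherent] [F.IsQuasicoherent]

theorem bijective_theta {V : Y.Opens} (hV : IsAffineOpen V) :
    Function.Bijective ((ProjFormula.theta f E F).app V) := by
  haveI := QCoh.Pullback.isQCoh_pullback f E
  haveI : ((Scheme.Modules.pushforward f).obj F).IsQuasicoherent := QCoh.Pushforward.isQCoh_pushforward f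
  let P := (Scheme.Modules.pushforward f).obj F
  let G := (Scheme.Modules.pullback f).obj E
  letI : Algebra Γ(Y, V) Γ(X, f ⁻¹ᵁ V) := (f.appLE V (f ⁻¹ᵁ V) le_rfl).hom.toAlgebra
  letI : Module Γ(Y, V) Γ(F, f ⁻¹ᵁ V) := Module.compHom _ (f.appLE V (f ⁻¹ᵁ V) le_rfl).hom
  haveI : IsScalarTower Γ(Y, V) Γ(X, f ⁻¹ᵁ V) Γ(F, f ⁻¹ᵁ V) :=
    IsScalarTower.of_algebraMap_smul fun _ _ => rfl
  let p : Γ(P, V) ≃ₗ[Γ(Y, V)] Γ(F, f ⁻¹ᵁ V) :=
    { AddEquiv.refl _ with
      map_smul' := fun r a => by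
        change (f.app V r • (show Γ(F, f ⁻¹ᵁ V) from a)) =
          f.appLE V (f ⁻¹ᵁ V) le_rfl r • (show Γ(F, f ⁻¹ᵁ V) from a)
        rw [← Scheme.Hom.app_eq_appLE] }
  let q : Γ(X, f ⁻¹ᵁ V) ⊗[Γ(Y, V)] Γ(E, V) ≃ₗ[Γ(X, f ⁻¹ᵁ V)] Γ(G, f ⁻¹ᵁ V) :=
    LinearEquiv.ofBijective (ZarCoh.FlatBC.PullbackSections.pbTensor f E le_rfl)
      (ZarCoh.FlatBC.PullbackSections.bijective_pbTensor f E hV (hV.preimage f) le_rfl)
  let Φ := ((TensorProduct.congr (LinearEquiv.refl _ Γ(E, V)) p).toAddEquiv.trans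
      (DerivedOX.ProjClosed.cancel (S := Γ(X, f ⁻¹ᵁ V)))).trans
        (TensorProduct.congr q (LinearEquiv.refl _ Γ(F, f ⁻¹ᵁ V))).toAddEquiv
  have key : ∀ t, (ProjFormula.theta f E F).app V (TensorAffine.gamma E P V t) =
      TensorAffine.gamma G F (f ⁻¹ᵁ V) (Φ t) := by
    intro t
    induction t using TensorProduct.induction_on with
    | zero => simp only [map_zero]; rfl
    | add a b ha hb => simp only [map_add]; exact congrArg₂ (· + ·) ha hb
    | tmul m n =>
      refine (ProjFormula.theta_tens f F m n).trans ?_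
      simp only [Φ, AddEquiv.trans_apply, LinearEquiv.coe_toAddEquiv, TensorProduct.congr_tmul,
        LinearEquiv.refl_apply, DerivedOX.ProjClosed.cancel_tmul, TensorAffine.gamma_tmul]
      refine congrArg₂ (fun a b => TensorSec.tens (U := f ⁻¹ᵁ V) a b) ?_ rfl
      refine Eq.symm ((ZarCoh.FlatBC.PullbackSections.pbTensor_tmul f E le_rfl 1 m).trans ?_)
      rw [one_smul]
      change G.presheaf.map (homOfLE (le_rfl : f ⁻¹ᵁ V ≤ f ⁻¹ᵁ V)).op (TensorMod.Pullback.unitSec f E m) = _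
      rw [show (homOfLE (le_rfl : f ⁻¹ᵁ V ≤ f ⁻¹ᵁ V)).op = 𝟙 _ from Subsingleton.elim _ _,
        CategoryTheory.Functor.map_id]
      rfl
  have h1 := TensorAffine.bijective_gamma (M := E) (N := P) hV
  have h2 := TensorAffine.bijective_gamma (M := G) (N := F) (hV.preimage f)
  have h3 : Function.Bijective ((ProjFormula.theta f E F).app V ∘ TensorAffine.gamma E P V) := by
    rw [show ((ProjFormula.theta f E F).app V ∘ TensorAffine.gamma E P V) =
      (fun t => TensorAffine.gamma G F (f ⁻¹ᵁ V) (Φ t)) from funext key]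
    exact h2.comp Φ.bijective
  exact (Function.Bijective.of_comp_iff _ h1).1 h3

/-- `E ⊗ f_* F ≅ f_* (f^* E ⊗ F)`. -/
noncomputable def projIso : CohB1.tensorMod E ((Scheme.Modules.pushforward f).obj F) ≅
    (Scheme.Modules.pushforward f).obj (CohB1.tensorMod ((Scheme.Modules.pullback f).obj E) F) :=
  @asIso _ _ _ _ (ProjFormula.theta f E F)
    (ClSub.Basis.isIso_of_bijective_affine _ fun U => bijective_theta f E F U.2)

end Groth.Agent.Lib.ProjAffine51
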